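import Groth.Agent.LMLib.End
import Groth.Agent.HomCohLib.Adj
import Groth.Agent.ChernOpLib.Dual
import Groth.Agent.ExtShLib.DivExt

/-!
# The dual as an additive contravariant functor, and the dual of sums and tensor powers
-/

set_option autoImplicit false
set_option linter.style.haveILetI false
set_option linter.unusedSectionVars false
set_option backward.isDefEq.respectTransparency false
set_option backward.isDefEq.respectTransparency.types false
set_option maxHeartbeats 1000000
set_option synthInstance.maxHeartbeats 400000

universe u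

open CategoryTheory CategoryTheory.Limits AlgebraicGeometry Opposite
open CohCmpLib (homMod evMod curryMod curryMod_comp hom_homMod_ext)
open ChernOpLib (du duMap)

noncomputable section

namespace DuFunLib

variable {X : Scheme.{u}}

local notation "T" => (DCoh.tensorBi (X := X))

theorem map_duMap_ev {M M' : X.Modules} (f : M ⟶ M') :
    ((T).obj M).map (duMap f) ≫ evMod M (Coh.structureModule X) =
      ((T).map f).app (du M') ≫ evMod M' (Coh.structureModule X) :=
  curryMod_comp _

/-- The dual as a contravariant functor. -/
def duFun (X : Scheme.{u}) : (X.Modules)ᵒᵖ ⥤ X.Modules where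
  obj M := du M.unop
  map f := duMap f.unop
  map_id M := hom_homMod_ext (by
    rw [map_duMap_ev]
    simp)
  map_comp {a b c} f g := hom_homMod_ext (by
    rw [map_duMap_ev, unop_comp, Functor.map_comp, NatTrans.comp_app, Category.assoc,
      Functor.map_comp, Category.assoc, map_duMap_ev, NatTrans.naturality_assoc, map_duMap_ev])

instance : (duFun X).Additive where
  map_add {a b f g} := hom_homMod_ext (by
    show ((T).obj b.unop).map (duMap (f + g).unop) ≫ _ = ((T).obj b.unop).map (duMap f.unop + duMap g.unop) ≫ _
    rw [map_duMap_ev, unop_add, Functor.map_add, Functor.map_add, NatTrans.app_add, Preadditive.add_comp,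
      Preadditive.add_comp, map_duMap_ev, map_duMap_ev])

/-- The dual takes finite sums to finite sums. -/
theorem nonempty_du_sigma {ι : Type} [Finite ι] (M : ι → X.Modules) :
    Nonempty (du (∐ M) ≅ ∐ fun i => du (M i)) := by
  haveI : HasFiniteBiproducts X.Modules := HasFiniteBiproducts.of_hasFiniteProducts
  let G := duFun X
  haveI : PreservesFiniteProducts G := inferInstance
  haveI : Fintype ι := Fintype.ofFinite ι
  exact ⟨G.mapIso (opCoproductIsoProduct M) ≪≫ PreservesProduct.iso G (fun i => op (M i)) ≪≫
    (biproduct.isoProduct fun i => du (M i)).symm ≪≫ biproduct.isoCoproduct fun i => du (M i)⟩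

/-- The dual of `O`. -/
theorem nonempty_du_unit : Nonempty (du (Coh.structureModule X) ≅ Coh.structureModule X) :=
  ⟨(asIso (ExtShLib.unitHom' (Coh.structureModule X))).symm⟩

/-- The dual of a tensor power. -/
theorem nonempty_du_tensorPow {E : X.Modules} (hE : FlatMod.IsFinLocFree E) : ∀ n : ℕ,
    Nonempty (du (CohB1.tensorPow E n) ≅ CohB1.tensorPow (du E) n)
  | 0 => nonempty_du_unit
  | n + 1 => by
      obtain ⟨e⟩ := nonempty_du_tensorPow hE n
      obtain ⟨t⟩ := LMLib.exists_homMod_iso_tensor hE (du (CohB1.tensorPow E n))
      exact ⟨LMLib.homModTensorIso (CohB1.tensorPow E n) E _ ≪≫ t ≪≫ HilbPolyLib.congrRight _ e ≪≫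
        HilbPolyLib.swapIso _ _⟩

def tensorPowCongr {A B : X.Modules} (e : A ≅ B) : ∀ n : ℕ, CohB1.tensorPow A n ≅ CohB1.tensorPow B n
  | 0 => Iso.refl _
  | n + 1 => HilbPolyLib.congrLeft (tensorPowCongr e n) A ≪≫ HilbPolyLib.congrRight _ e

end DuFunLib

end
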